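import Cfsg.Agent.H756.PU.Engine
import Cfsg.Agent.Lib.FrattiniPGroup
import Cfsg.Agent.Schreier.Tools2
import Cfsg.Prelude.Def_EvenType

/-!
# S5258 (hub helper756), task 4650 = PU-G4 (helper775): `|N_S(E) / E|² ≤ |E / Φ(E)| ≤ |E|`

* `B3083`      : the statement of S3083 in one universe (its closure is large; it is plugged in in `H775/PU/BoundFin.lean`);
* `bound'_of`, `bound_of` : `StBound'` and `StBound` from it.
-/

set_option autoImplicit false

namespace Cfsg.Agent.H775.PU

open Cfsg Cfsg.FusionSystem Cfsg.Agent.H756.PU Subgroup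

universe u

/-- the statement of S3083 -/
def B3083 : Prop :=
  ∀ {H : Type u} [Group H] [Finite H] (p : ℕ) [Fact p.Prime] (M : Subgroup H), IsStronglyPEmbedded p M →
    ∀ (T : Sylow p H) (V : Type u) [AddCommGroup V] [Module (ZMod p) V] [Finite V] (ρ : Representation (ZMod p) H V),
      Function.Injective ρ → Nat.card T ^ 2 ≤ Nat.card V

/-! ### linear actions (after helper834) -/

/-- the linear action on an elementary abelian group -/
noncomputable def lin {Q : Type*} [CommGroup Q] {K : Type*} [Group K] (p : ℕ)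
    [Module (ZMod p) (Additive Q)] (φ : K →* MulAut Q) :
    K →* Module.End (ZMod p) (Additive Q) where
  toFun g := AddMonoidHom.toZModLinearMap p (MonoidHom.toAdditive (φ g).toMonoidHom)
  map_one' := by
    apply LinearMap.ext
    intro v
    show Additive.ofMul (φ 1 v.toMul) = v
    rw [map_one]
    rfl
  map_mul' g h := by
    apply LinearMap.ext
    intro v
    show Additive.ofMul (φ (g * h) v.toMul) = Additive.ofMul (φ g (φ h v.toMul))
    rw [map_mul]
    rfl

theorem lin_apply {Q : Type*} [CommGroup Q] {K : Type*} [Group K] (p : ℕ)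
    [Module (ZMod p) (Additive Q)] (φ : K →* MulAut Q) (g : K) (q : Q) :
    lin p φ g (Additive.ofMul q) = Additive.ofMul (φ g q) := rfl

theorem lin_injective {Q : Type*} [CommGroup Q] {K : Type*} [Group K] (p : ℕ)
    [Module (ZMod p) (Additive Q)] {φ : K →* MulAut Q} (hφ : Function.Injective φ) : Function.Injective (lin p φ) := by
  rw [injective_iff_map_eq_one]
  intro g h
  rw [injective_iff_map_eq_one] at hφ
  apply hφ
  apply MulEquiv.ext
  intro q
  have h1 : lin p φ g (Additive.ofMul q) = Additive.ofMul q := by rw [h]; rfl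
  rw [lin_apply] at h1
  exact Additive.ofMul.injective h1

/-- S3083 for a group acting faithfully on an elementary abelian group -/
theorem sq_le_of_act (h3083 : B3083.{u}) {Q : Type u} [CommGroup Q] [Finite Q] {p : ℕ} [Fact p.Prime]
    (he : ∀ x : Q, x ^ p = 1) {K : Type u} [Group K] [Finite K] (φ : K →* MulAut Q) (hφ : Function.Injective φ)
    (M : Subgroup K) (hM : IsStronglyPEmbedded p M) (T : Sylow p K) : Nat.card T ^ 2 ≤ Nat.card Q := by
  obtain ⟨inst⟩ : Nonempty (Module (ZMod p) (Additive Q)) :=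
    ⟨AddCommGroup.zmodModule (n := p) (fun v => by exact he v.toMul)⟩
  have hfQ : Finite (Additive Q) := inferInstanceAs (Finite Q)
  exact h3083 p M hM T (Additive Q) (lin p φ) (lin_injective p hφ)

section

variable {Ω : Type u} [Group Ω]

/-- the action of `Γ ≤ Aut(E)` on `E / Φ(E)` -/
noncomputable def act {E : Type*} [Group E] (Γ : Subgroup (MulAut E)) : Γ →* MulAut (E ⧸ frattini E) where
  toFun g := QuotientGroup.congr (frattini E) (frattini E) (g : MulAut E)
    (Subgroup.characteristic_iff_map_eq.mp inferInstance _)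
  map_one' := by
    ext x
    obtain ⟨x, rfl⟩ := QuotientGroup.mk_surjective x
    rfl
  map_mul' g h := by
    ext x
    obtain ⟨x, rfl⟩ := QuotientGroup.mk_surjective x
    rfl

theorem act_mk {E : Type*} [Group E] (Γ : Subgroup (MulAut E)) (g : Γ) (x : E) :
    act Γ g (x : E ⧸ frattini E) = ((g : MulAut E) x : E ⧸ frattini E) := rfl

theorem mem_ker_act {E : Type*} [Group E] (Γ : Subgroup (MulAut E)) (g : Γ) :
    g ∈ (act Γ).ker ↔ ∀ x : E, (g : MulAut E) x * x⁻¹ ∈ frattini E := by
  rw [MonoidHom.mem_ker]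
  constructor
  · intro h x
    have h1 := act_mk Γ g x
    rw [h] at h1
    rw [← QuotientGroup.eq_one_iff, QuotientGroup.mk_mul, QuotientGroup.mk_inv, ← h1]
    exact mul_inv_cancel _
  · intro h
    ext x
    obtain ⟨x, rfl⟩ := QuotientGroup.mk_surjective x
    have h1 := h x
    rw [← QuotientGroup.eq_one_iff, QuotientGroup.mk_mul, QuotientGroup.mk_inv, mul_inv_eq_one] at h1
    exact h1

variable {S E : Subgroup Ω} {p : ℕ} {Γ : Subgroup (MulAut E)}

theorem finE (h : Ess S E p Γ) : Finite E := by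
  have := h.fin
  exact Finite.of_injective (inclusion h.E_le) (inclusion_injective h.E_le)

theorem pE (h : Ess S E p Γ) : IsPGroup p E := by
  have := h.pgr
  exact this.of_injective (inclusion h.E_le) (inclusion_injective h.E_le)

/-- the elements of `Γ` acting trivially on `E / Φ(E)` are inner -/
theorem ker_act_le (h : Ess S E p Γ) (g : Γ) (hg : g ∈ (act Γ).ker) : (g : MulAut E) ∈ Inn E := by
  have hfE := finE h
  have := Fact.mk h.pp
  have hpE := pE h
  have hn : ((act Γ).ker).Normal := inferInstance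
  have hK : IsPGroup p ((act Γ).ker.map Γ.subtype) := by
    apply Cfsg.Agent.Schreier.Tools2.isPGroup_of_trivial_mod_frattini hpE
    rintro _ ⟨y, hy, rfl⟩
    exact (mem_ker_act Γ y).1 hy
  obtain ⟨c, hc, hcP⟩ := h.syl _ (by rintro _ ⟨y, -, rfl⟩; exact y.2) hK
  have hle : ∀ y : Γ, y ∈ (act Γ).ker → (y : MulAut E) ∈ autInducedBy S E := by
    intro y hy
    have h1 := hcP ((⟨c, hc⟩⁻¹ * y * ⟨c, hc⟩ : Γ) : MulAut E) ⟨_, by
      have := hn.conj_mem y hy (⟨c, hc⟩⁻¹)
      rwa [inv_inv] at this, rfl⟩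
    have e : c * ((⟨c, hc⟩⁻¹ * y * ⟨c, hc⟩ : Γ) : MulAut E) * c⁻¹ = (y : MulAut E) := by
      push_cast
      group
    rwa [e] at h1
  obtain ⟨H, hHΓ, hHne, hAH, -, hspe⟩ := h.spe
  obtain ⟨d, hd, hdH⟩ : ∃ d ∈ Γ, d ∉ H := by
    by_contra hcon
    push Not at hcon
    exact hHne (le_antisymm hHΓ hcon)
  refine hspe d hd hdH g (hAH (hle g hg)) ?_ ?_
  · have h2 := hle _ (hn.conj_mem g hg ⟨d, hd⟩)
    exact hAH h2
  · obtain ⟨k, hk⟩ := hK ⟨(g : MulAut E), ⟨g, hg, rfl⟩⟩
    exact ⟨k, congrArg Subtype.val hk⟩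

/-- inner automorphisms act trivially on `E / Φ(E)` -/
theorem inn_le_ker (h : Ess S E p Γ) (g : Γ) (hg : (g : MulAut E) ∈ Inn E) : g ∈ (act Γ).ker := by
  have hfE := finE h
  have := Fact.mk h.pp
  rw [mem_ker_act]
  intro x
  obtain ⟨e, he⟩ := hg
  rw [← he]
  change e * x * e⁻¹ * x⁻¹ ∈ frattini E
  exact Cfsg.Agent.Lib.FrattiniPGroup.commutator_le_frattini (pE h)
    (Subgroup.commutator_mem_commutator (mem_top e) (mem_top x))

theorem inn_le (h : Ess S E p Γ) : Inn E ≤ autInducedBy S E := by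
  rintro _ ⟨e, rfl⟩
  exact (H802.mem_autInducedBy_iff _ _ _).2 ⟨e, h.E_le e.2, fun x => rfl⟩

/-- `|Aut_S(E) : Inn(E)| = |N_S(E) : E|` -/
theorem relIndex_inn (h : Ess S E p Γ) : (Inn E).relIndex (autInducedBy S E) = E.relIndex (normalizerIn S E) := by
  have hR : normalizerIn S E ≤ normalizer (E : Set Ω) := inf_le_right
  have hER : E ≤ normalizerIn S E := le_inf h.E_le le_normalizer
  let c : normalizerIn S E →* MulAut E := (normalizerMonoidHom E).comp (inclusion hR)
  have hc : ∀ (r : normalizerIn S E) (x : E), ((c r x : E) : Ω) = r * x * (r : Ω)⁻¹ := fun r x => rfl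
  have hA : autInducedBy S E = (⊤ : Subgroup (normalizerIn S E)).map c := by
    ext α
    rw [H802.mem_autInducedBy_iff]
    constructor
    · rintro ⟨g, hg, hgα⟩
      refine ⟨⟨g, hg, H802.mem_normalizer_of_aut hgα⟩, mem_top _, ?_⟩
      ext x
      rw [hc, hgα]
    · rintro ⟨r, -, rfl⟩
      exact ⟨r, r.2.1, fun x => rfl⟩
  have hI : Inn E = (E.subgroupOf (normalizerIn S E)).map c := by
    ext α
    constructor
    · rintro ⟨e, rfl⟩
      refine ⟨⟨e, hER e.2⟩, e.2, ?_⟩
      ext x
      rfl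
    · rintro ⟨r, hr, rfl⟩
      refine ⟨⟨r, hr⟩, ?_⟩
      ext x
      rfl
  have hk : c.ker ≤ E.subgroupOf (normalizerIn S E) := by
    intro r hr
    rw [mem_subgroupOf]
    refine h.cent r r.2.1 fun e he => ?_
    have h1 := hc r ⟨e, he⟩
    rw [MonoidHom.mem_ker.1 hr] at h1
    have h2 : e = r * e * (r : Ω)⁻¹ := h1
    rw [eq_mul_inv_iff_mul_eq] at h2
    exact h2.symm
  rw [hA, hI, relIndex_map_map, sup_eq_left.2 hk, top_sup_eq, relIndex_top_right]
  rfl

/-- `|N_S(E) / E|² ≤ |E / Φ(E)|` -/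
theorem bound'_of (h3083 : B3083.{u}) : StBound'.{u} := by
  intro Ω _ S E p Γ h
  have hfE := finE h
  have := Fact.mk h.pp
  have := h.fin
  have hpE := pE h
  obtain ⟨H, hHΓ, hHne, hAH, hAI, hspe⟩ := h.spe
  set C := (act Γ).ker with hC
  have hCI : C = (Inn E).subgroupOf Γ := by
    ext g
    exact ⟨ker_act_le h g, inn_le_ker h g⟩
  let K := Γ ⧸ C
  have hfK : Finite K := inferInstance
  have hfR : Finite (normalizerIn S E) :=
    Finite.of_injective (inclusion (inf_le_left : normalizerIn S E ≤ S)) (inclusion_injective _)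
  have hpR : IsPGroup p (normalizerIn S E) :=
    h.pgr.of_injective (inclusion (inf_le_left : normalizerIn S E ≤ S)) (inclusion_injective _)
  obtain ⟨k, hk⟩ : ∃ k, E.relIndex (normalizerIn S E) = p ^ k :=
    hpR.index (E.subgroupOf (normalizerIn S E))
  -- the order of the quotient
  have hcardK : (Inn E).relIndex (autInducedBy S E) ∣ Nat.card K := by
    have h1 : Nat.card K = (Inn E).relIndex Γ := by
      change C.index = _
      rw [hCI]
      rfl
    rw [h1, ← relIndex_mul_relIndex _ _ _ (inn_le h) h.indu]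
    exact dvd_mul_right _ _
  rw [relIndex_inn h, hk] at hcardK
  have hk0 : k ≠ 0 := by
    rintro rfl
    apply hAI
    rw [← relIndex_eq_one, relIndex_inn h, hk, pow_zero]
  -- commutativity of `E / Φ(E)`
  have hcomm : ∀ a b : E ⧸ frattini E, a * b = b * a := by
    intro a b
    obtain ⟨a, rfl⟩ := QuotientGroup.mk_surjective a
    obtain ⟨b, rfl⟩ := QuotientGroup.mk_surjective b
    rw [← QuotientGroup.mk_mul, ← QuotientGroup.mk_mul, QuotientGroup.eq]
    have h1 := Cfsg.Agent.Lib.FrattiniPGroup.commutator_le_frattini hpE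
      (Subgroup.commutator_mem_commutator (mem_top b⁻¹) (mem_top a⁻¹))
    rw [commutatorElement_def] at h1
    convert h1 using 1
    group
  let cg : CommGroup (E ⧸ frattini E) :=
    { (inferInstance : Group (E ⧸ frattini E)) with mul_comm := hcomm }
  have hpow : ∀ x : E ⧸ frattini E, x ^ p = 1 := by
    intro x
    obtain ⟨x, rfl⟩ := QuotientGroup.mk_surjective x
    rw [← QuotientGroup.mk_pow, QuotientGroup.eq_one_iff]
    exact Cfsg.Agent.Lib.FrattiniPGroup.pow_mem_frattini hpE x
  -- the strongly embedded subgroup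
  let π : Γ →* K := QuotientGroup.mk' C
  have hπ : Function.Surjective π := QuotientGroup.mk'_surjective C
  have hCH : ∀ g : Γ, g ∈ C → (g : MulAut E) ∈ H := by
    intro g hg
    rw [hCI] at hg
    exact hAH (inn_le h hg)
  let M : Subgroup K := (H.subgroupOf Γ).map π
  have hmem : ∀ g : Γ, π g ∈ M → (g : MulAut E) ∈ H := by
    rintro g ⟨y, hy, hyg⟩
    have h1 : y⁻¹ * g ∈ C := QuotientGroup.eq.1 hyg
    have h2 := hCH _ h1
    have h3 := H.mul_mem (mem_subgroupOf.1 hy) h2
    have e : (y : MulAut E) * ((y⁻¹ * g : Γ) : MulAut E) = g := by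
      push_cast
      group
    rwa [e] at h3
  have hM : IsStronglyPEmbedded p M := by
    refine ⟨(dvd_pow_self p hk0).trans hcardK, ?_, ?_⟩
    · intro htop
      apply hHne
      refine le_antisymm hHΓ fun g hg => ?_
      exact hmem ⟨g, hg⟩ (by rw [htop]; exact mem_top _)
    · obtain ⟨P0⟩ : Nonempty (Sylow p Γ) := inferInstance
      have hP0 : IsPGroup p ((P0 : Subgroup Γ).map Γ.subtype) := P0.isPGroup'.map _
      obtain ⟨c, hc, hcP⟩ := h.syl _ (by rintro _ ⟨y, -, rfl⟩; exact y.2) hP0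
      let P1 : Sylow p Γ := (⟨c, hc⟩ : Γ) • P0
      have hP1 : ∀ y ∈ P1, (y : MulAut E) ∈ H := by
        intro y hy
        apply hAH
        have h1 : y ∈ (((⟨c, hc⟩ : Γ) • P0 : Sylow p Γ) : Subgroup Γ) := hy
        rw [Sylow.coe_subgroup_smul, mem_smul_pointwise_iff_exists] at h1
        obtain ⟨z, hz, rfl⟩ := h1
        exact hcP z ⟨z, hz, rfl⟩
      refine ⟨P1.mapSurjective hπ, ?_⟩
      unfold kGeneratedCore
      rw [iSup_le_iff]
      rintro ⟨Q, hQ, hrk⟩
      rintro g hg
      obtain ⟨g, rfl⟩ := hπ g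
      have hQ1 : Q ≠ ⊥ := by
        rintro rfl
        apply hrk
        intro A _ _
        have : Nat.card A ≤ Nat.card (⊥ : Subgroup K) := Finite.card_subtype_le _
        simpa using this
      obtain ⟨x, hxQ, hx1⟩ := (bot_or_exists_ne_one Q).resolve_left hQ1
      obtain ⟨x, hx, rfl⟩ := hQ hxQ
      have hgx : π (g * x * g⁻¹) ∈ Q := by
        rw [map_mul, map_mul, map_inv]
        exact (mem_normalizer_iff.1 hg _).1 hxQ
      obtain ⟨y, hy, hyg⟩ := hQ hgx
      have hgH : ((g * x * g⁻¹ : Γ) : MulAut E) ∈ H := hmem _ (by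
        rw [← hyg]
        exact ⟨y, hP1 y hy, rfl⟩)
      by_contra hgM
      have hgH' : (g : MulAut E) ∉ H := fun h' => hgM ⟨g, h', rfl⟩
      obtain ⟨j, hj⟩ := P1.isPGroup' ⟨x, hx⟩
      have h5 := hspe g g.2 hgH' x (hP1 x hx) hgH ⟨j, by
        have := congrArg (fun t : (P1 : Subgroup Γ) => ((t : Γ) : MulAut E)) hj
        simpa using this⟩
      apply hx1
      have h6 : x ∈ C := by
        rw [hCI]
        exact h5
      exact (QuotientGroup.eq_one_iff x).2 h6
  obtain ⟨T⟩ : Nonempty (Sylow p K) := inferInstance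
  have hT : p ^ k ≤ Nat.card T := by
    have h1 : p ^ k ∣ Nat.card T := by
      rw [T.card_eq_multiplicity]
      refine pow_dvd_pow p ?_
      rw [← h.pp.pow_dvd_iff_le_factorization Nat.card_pos.ne']
      exact hcardK
    exact Nat.le_of_dvd Nat.card_pos h1
  have hfin := sq_le_of_act h3083 hpow (QuotientGroup.kerLift (act Γ)) (QuotientGroup.kerLift_injective (act Γ)) M hM T
  rw [hk]
  exact (Nat.pow_le_pow_left hT 2).trans hfin

/-- `|N_S(E) / E|² ≤ |E|` -/
theorem bound_of (h3083 : B3083.{u}) : StBound.{u} := by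
  intro Ω _ S E p Γ h
  have hfE := finE h
  refine (bound'_of h3083 h).trans ?_
  exact Nat.le_of_dvd Nat.card_pos (frattini E).index_dvd_card

end

end Cfsg.Agent.H775.PU
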